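import Mathlib

/-! # The base change to a field extension is the limit of the base changes to finitely generated subalgebras -/

set_option autoImplicit false
universe u

open CategoryTheory CategoryTheory.Limits AlgebraicGeometry

noncomputable section

namespace Groth.Agent.FamConst.AlgLim

set_option backward.isDefEq.respectTransparency false
set_option backward.isDefEq.respectTransparency.types false

variable (k K : Type u) [Field k] [Field K] [Algebra k K]

/-- Generated subfields. -/
abbrev sub (s : Finset K) : Subalgebra k K := Algebra.adjoin k (s : Set K)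

/-- The system of subfields. -/
def rings : Finset K ⥤ CommRingCat.{u} where
  obj s := CommRingCat.of (sub k K s)
  map {s t} h := CommRingCat.ofHom
    (Subalgebra.inclusion (Algebra.adjoin_mono (Finset.coe_subset.2 (leOfHom h)))).toRingHom

/-- The inclusions. -/
def cocone : Cocone (rings k K) where
  pt := CommRingCat.of K
  ι := { app := fun s => CommRingCat.ofHom (sub k K s).val.toRingHom }

/-- `K` is the colimit. -/
def isColimit : IsColimit (cocone k K) := by
  classical
  haveI : ReflectsColimit (rings k K) (forget CommRingCat.{u}) := reflectsColimit_of_reflectsIsomorphisms _ _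
  refine isColimitOfReflects (forget CommRingCat.{u}) ?_
  refine Types.FilteredColimit.isColimitOf' _ _ (fun z => ?_) fun s x y h => ?_
  · exact ⟨{z}, ⟨z, Algebra.subset_adjoin (Finset.mem_singleton_self z)⟩, rfl⟩
  · exact ⟨s, 𝟙 s, congrArg _ (Subtype.ext h)⟩

/-- Spectra of the subfields. -/
def specs : (Finset K)ᵒᵖ ⥤ Scheme.{u} := (rings k K).op ⋙ Scheme.Spec

/-- The cone. -/
def specCone : Cone (specs k K) := Scheme.Spec.mapCone (cocone k K).op

/-- It is a limit. -/
def isLimitSpec : IsLimit (specCone k K) := isLimitOfPreserves Scheme.Spec (isColimit k K).op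

variable {X : Scheme.{u}} (f : X ⟶ Spec (CommRingCat.of k))

/-- The structure maps. -/
abbrev str (s : (Finset K)ᵒᵖ) : Spec (CommRingCat.of (sub k K s.unop)) ⟶ Spec (CommRingCat.of k) :=
  Spec.map (CommRingCat.ofHom (algebraMap k (sub k K s.unop)))

theorem str_map {s t : (Finset K)ᵒᵖ} (g : s ⟶ t) : (specs k K).map g ≫ str k K t = str k K s := by
  show Spec.map _ ≫ Spec.map _ = Spec.map _
  rw [← Spec.map_comp]
  rfl

theorem str_cone (s : (Finset K)ᵒᵖ) :
    (specCone k K).π.app s ≫ str k K s = Spec.map (CommRingCat.ofHom (algebraMap k K)) := by
  show Spec.map _ ≫ Spec.map _ = Spec.map _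
  rw [← Spec.map_comp]
  rfl

/-- The base changes. -/
def diag : (Finset K)ᵒᵖ ⥤ Scheme.{u} where
  obj s := pullback f (str k K s)
  map {s t} g := pullback.lift (pullback.fst _ _) (pullback.snd _ _ ≫ (specs k K).map g)
    (by rw [Category.assoc, str_map]; exact pullback.condition)
  map_id s := by
    refine pullback.hom_ext ?_ ?_
    · exact (pullback.lift_fst _ _ _).trans (Category.id_comp _).symm
    · refine (pullback.lift_snd _ _ _).trans ?_
      rw [CategoryTheory.Functor.map_id]
      exact (Category.comp_id _).trans (Category.id_comp _).symm
  map_comp g g' := by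
    refine pullback.hom_ext ?_ ?_
    · refine (pullback.lift_fst _ _ _).trans ?_
      rw [Category.assoc, pullback.lift_fst, pullback.lift_fst]
    · refine (pullback.lift_snd _ _ _).trans ?_
      rw [Category.assoc, pullback.lift_snd, pullback.lift_snd_assoc, Functor.map_comp, Category.assoc]

/-- Projection to the spectra. -/
def toSpecs : diag k K f ⟶ specs k K where
  app s := pullback.snd f (str k K s)
  naturality _ _ _ := pullback.lift_snd _ _ _

/-- The projections. -/
def proj (s : (Finset K)ᵒᵖ) :
    pullback f (Spec.map (CommRingCat.ofHom (algebraMap k K))) ⟶ pullback f (str k K s) :=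
  pullback.lift (pullback.fst _ _) (pullback.snd _ _ ≫ (specCone k K).π.app s)
    (by rw [Category.assoc, str_cone]; exact pullback.condition)

/-- The cone of base changes. -/
def cone : Cone (diag k K f) where
  pt := pullback f (Spec.map (CommRingCat.ofHom (algebraMap k K)))
  π :=
    { app := proj k K f
      naturality := fun s t g => by
        refine (Category.id_comp _).trans (pullback.hom_ext ?_ ?_)
        · refine (pullback.lift_fst _ _ _).trans ?_
          refine Eq.trans ?_ (Category.assoc _ _ _).symm
          exact (pullback.lift_fst _ _ _).symm.trans (congrArg (proj k K f s ≫ ·) (pullback.lift_fst _ _ _).symm)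
        · refine (pullback.lift_snd _ _ _).trans ?_
          refine Eq.trans ?_ (Category.assoc _ _ _).symm
          refine Eq.trans ?_ (congrArg (proj k K f s ≫ ·) (pullback.lift_snd _ _ _).symm)
          refine Eq.trans ?_ (Category.assoc _ _ _)
          refine Eq.trans ?_ (congrArg (· ≫ (specs k K).map g) (pullback.lift_snd _ _ _).symm)
          rw [Category.assoc]
          exact congrArg (pullback.snd _ _ ≫ ·) ((specCone k K).w g).symm }

theorem isPullback_proj (s : (Finset K)ᵒᵖ) :
    IsPullback (proj k K f s) (pullback.snd f (Spec.map (CommRingCat.ofHom (algebraMap k K))))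
      (pullback.snd f (str k K s)) ((specCone k K).π.app s) := by
  refine IsPullback.of_right ?_ (pullback.lift_snd _ _ _) (IsPullback.of_hasPullback f (str k K s))
  rw [show proj k K f s ≫ pullback.fst f (str k K s) = pullback.fst _ _ from pullback.lift_fst _ _ _, str_cone]
  exact IsPullback.of_hasPullback f _

attribute [local instance] IsCofiltered.isConnected in
/-- It is a limit. -/
def isLimitCone : IsLimit (cone k K f) := by
  classical
  exact isLimitOfIsPullbackOfIsConnected (toSpecs k K f) _ (specCone k K)
    { hom := pullback.snd f (Spec.map (CommRingCat.ofHom (algebraMap k K))), w := fun s => (pullback.lift_snd _ _ _).symm }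
    (fun s => isPullback_proj k K f s) (isLimitSpec k K)

instance isAffineHom_map {s t : (Finset K)ᵒᵖ} (g : s ⟶ t) : IsAffineHom ((diag k K f).map g) := by
  haveI : IsAffineHom ((diag k K f).map g ≫ pullback.fst f (str k K t)) := by
    rw [show (diag k K f).map g ≫ pullback.fst f (str k K t) = pullback.fst f (str k K s) from pullback.lift_fst _ _ _]
    exact MorphismProperty.pullback_fst _ _ inferInstance
  haveI : IsAffineHom (pullback.fst f (str k K t)) := MorphismProperty.pullback_fst _ _ inferInstance
  exact IsAffineHom.of_comp ((diag k K f).map g) (pullback.fst f (str k K t))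

instance compactSpace_obj [CompactSpace X] (s : (Finset K)ᵒᵖ) : CompactSpace ((diag k K f).obj s) := by
  show CompactSpace ↥(pullback f (str k K s))
  haveI : IsAffineHom (pullback.fst f (str k K s)) := MorphismProperty.pullback_fst _ _ inferInstance
  exact QuasiCompact.compactSpace_of_compactSpace (pullback.fst f (str k K s))

instance quasiSeparatedSpace_obj [QuasiSeparatedSpace X] (s : (Finset K)ᵒᵖ) :
    QuasiSeparatedSpace ((diag k K f).obj s) := by
  show QuasiSeparatedSpace ↥(pullback f (str k K s))
  haveI : IsAffineHom (pullback.fst f (str k K s)) := MorphismProperty.pullback_fst _ _ inferInstance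
  exact quasiSeparatedSpace_of_quasiSeparated (pullback.fst f (str k K s))

end Groth.Agent.FamConst.AlgLim
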