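import Groth.Agent.FamConst.Consts
import Groth.Agent.FamConst.AlgLim
import Groth.Agent.S12073
import Groth.Agent.Pi1X.GeomConnFF

/-! Finite etale covers of proper schemes under extensions of algebraically closed fields. -/

set_option autoImplicit false
set_option linter.style.haveILetI false
set_option backward.isDefEq.respectTransparency false
set_option backward.isDefEq.respectTransparency.types false
universe u

open CategoryTheory CategoryTheory.Limits AlgebraicGeometry TopologicalSpace

noncomputable section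

namespace Groth.Agent.FamConst

theorem exists_algHom (k A : Type u) [Field k] [IsAlgClosed k] [CommRing A] [Nontrivial A] [Algebra k A]
    [Algebra.FiniteType k A] : Nonempty (A →ₐ[k] k) := by
  obtain ⟨m, hm⟩ := Ideal.exists_maximal A
  letI := Ideal.Quotient.field m
  haveI : Algebra.FiniteType k (A ⧸ m) :=
    Algebra.FiniteType.of_surjective (Ideal.Quotient.mkₐ k m) (Ideal.Quotient.mkₐ_surjective k m)
  haveI : Module.Finite k (A ⧸ m) := finite_of_finite_type_of_isJacobsonRing k (A ⧸ m)
  exact ⟨(IsAlgClosed.lift (R := k) (S := A ⧸ m) (M := k)).comp (Ideal.Quotient.mkₐ k m)⟩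

theorem isEquivalence_baseChange (k k' : Type u) [Field k] [Field k'] [IsAlgClosed k] [IsAlgClosed k'] [Algebra k k']
    {X : Scheme.{u}} (f : X ⟶ Spec (CommRingCat.of k)) [IsProper f] :
    (FEt.restrict (pullback.fst f (Spec.map (CommRingCat.ofHom (algebraMap k k'))))).IsEquivalence := by
  let b := Spec.map (CommRingCat.ofHom (algebraMap k k'))
  let p := pullback.fst f b
  haveI : ConnectedSpace ↥(Spec (CommRingCat.of k')) := inferInstanceAs (ConnectedSpace (PrimeSpectrum k'))
  haveI : GeometricallyConnected b := S2501.result b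
  haveI : UniversallyOpen p := MorphismProperty.pullback_fst _ _ inferInstance
  haveI : GeometricallyConnected p := MorphismProperty.pullback_fst _ _ inferInstance
  obtain ⟨hfull, hfaith⟩ := Pi1X.restrict_full_faithful_of_geomConnected p
  haveI : CompactSpace X := QuasiCompact.compactSpace_of_compactSpace f
  haveI : QuasiSeparatedSpace X := quasiSeparatedSpace_of_quasiSeparated f
  haveI hess : (FEt.restrict p).EssSurj := ⟨fun V' => by
    let D := AlgLim.diag k k' f
    haveI : ∀ (i j : (Finset k')ᵒᵖ) (φ : i ⟶ j), IsAffineHom (D.map φ) := fun _ _ φ => AlgLim.isAffineHom_map k k' f φ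
    haveI : ∀ i, CompactSpace (D.obj i) := fun i => AlgLim.compactSpace_obj k k' f i
    haveI : ∀ i, QuasiSeparatedSpace (D.obj i) := fun i => AlgLim.quasiSeparatedSpace_obj k k' f i
    obtain ⟨j, V, ⟨eV⟩⟩ := (Groth.Agent.S12073.result D (AlgLim.cone k k' f) (AlgLim.isLimitCone k k' f)).1 V'
    let A := AlgLim.sub k k' j.unop
    haveI : Algebra.FiniteType k A := (Subalgebra.fg_iff_finiteType A).1 (Subalgebra.fg_adjoin_finset _)
    haveI : IsNoetherianRing A := Algebra.FiniteType.isNoetherianRing k A
    haveI : IsNoetherianRing (CommRingCat.of A) := ‹IsNoetherianRing A›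
    haveI : Nontrivial A := inferInstance
    haveI : ConnectedSpace ↥(Spec (CommRingCat.of A)) := inferInstanceAs (ConnectedSpace (PrimeSpectrum A))
    obtain ⟨a⟩ := exists_algHom k A
    let pA := AlgLim.str k k' j
    let y : Spec (CommRingCat.of k) ⟶ Spec (CommRingCat.of A) := Spec.map (CommRingCat.ofHom a.toRingHom)
    have hy : y ≫ pA = 𝟙 _ := by
      show Spec.map _ ≫ Spec.map _ = _
      rw [← Spec.map_comp, ← CommRingCat.ofHom_comp, ← Spec.map_id]
      exact congrArg (fun φ => Spec.map (CommRingCat.ofHom φ)) (RingHom.ext fun x => a.commutes x)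
    have hw : 𝟙 X ≫ f = (f ≫ y) ≫ pA := by rw [Category.assoc, hy, Category.comp_id, Category.id_comp]
    let jy := pullback.lift (𝟙 X) (f ≫ y) hw
    let W := (FEt.restrict jy).obj V
    let P := pullback.fst f pA
    have h₁ : jy ≫ P = 𝟙 X := pullback.lift_fst _ _ _
    let c := AlgLim.proj k k' f j
    have hc : c ≫ P = p := pullback.lift_fst _ _ _
    have hc₂ : c ≫ pullback.snd f pA = pullback.snd f b ≫ (AlgLim.specCone k k').π.app j := pullback.lift_snd _ _ _
    obtain ⟨e⟩ := proj_iso f pA ((FEt.restrict P).obj W) V y hy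
      ((Pi1Ext.Spread.restrictComp jy P (𝟙 X) h₁.symm W).symm ≪≫ Pi1Ext.Spread.restrictId W)
      k' ((AlgLim.specCone k k').π.app j) c (pullback.snd f b) hc₂
    exact ⟨W, ⟨Pi1Ext.Spread.restrictComp c P p hc.symm W ≪≫ e ≪≫ eV⟩⟩⟩
  exact { }

end Groth.Agent.FamConst
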