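import Groth.Agent.FamConst.Pieces

/-! A family of covers of a proper scheme is constant. -/

set_option autoImplicit false
set_option linter.style.haveILetI false
set_option backward.isDefEq.respectTransparency false
set_option backward.isDefEq.respectTransparency.types false
universe u

open CategoryTheory CategoryTheory.Limits AlgebraicGeometry TopologicalSpace

noncomputable section

namespace Groth.Agent.FamConst

variable {k : Type u} [Field k] [IsAlgClosed k]

theorem section_eq_id {X Y : Scheme.{u}} [Nonempty X] (pX : X ⟶ Spec (CommRingCat.of k))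
    (pY : Y ⟶ Spec (CommRingCat.of k)) (y : Spec (CommRingCat.of k) ⟶ Y) (hy : 𝟙 X ≫ pX = (pX ≫ y) ≫ pY) :
    y ≫ pY = 𝟙 _ := by
  haveI : Subsingleton ↥(Spec (CommRingCat.of k)) := inferInstanceAs (Subsingleton (PrimeSpectrum k))
  haveI : Surjective pX := ⟨fun z => ⟨Classical.arbitrary X, Subsingleton.elim _ _⟩⟩
  haveI : Flat pX := inferInstance
  haveI := Flat.epi_of_flat_of_surjective pX
  rw [← cancel_epi pX, Category.comp_id, ← Category.assoc, ← hy, Category.id_comp]

theorem nonempty_iso_of_isEmpty {T : Scheme.{u}} [IsEmpty T] (U V : FEt.Cat T) : Nonempty (U ≅ V) :=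
  iso_of_pieces U V (ι := PEmpty.{u+1}) (fun i => i.elim) (fun i => i.elim) (fun x => isEmptyElim x) (fun i => i.elim)

theorem const_of_proper {X Y : Scheme.{u}} (pX : X ⟶ Spec (CommRingCat.of k)) (pY : Y ⟶ Spec (CommRingCat.of k))
    [IsProper pX] [ConnectedSpace Y] [IsLocallyNoetherian Y] (Z' : FEt.Cat (pullback pX pY))
    (y y' : Spec (CommRingCat.of k) ⟶ Y) (hy : 𝟙 X ≫ pX = (pX ≫ y) ≫ pY) (hy' : 𝟙 X ≫ pX = (pX ≫ y') ≫ pY) :
    Nonempty ((FEt.restrict (pullback.lift (𝟙 X) (pX ≫ y) hy)).obj Z' ≅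
      (FEt.restrict (pullback.lift (𝟙 X) (pX ≫ y') hy')).obj Z') := by
  cases isEmpty_or_nonempty X
  · exact nonempty_iso_of_isEmpty _ _
  let jy := pullback.lift (𝟙 X) (pX ≫ y) hy
  let jy' := pullback.lift (𝟙 X) (pX ≫ y') hy'
  let W := (FEt.restrict jy).obj Z'
  have h₁ : jy ≫ pullback.fst pX pY = 𝟙 X := pullback.lift_fst _ _ _
  have h₁' : jy' ≫ pullback.fst pX pY = 𝟙 X := pullback.lift_fst _ _ _
  let U := (FEt.restrict (pullback.fst pX pY)).obj W
  obtain ⟨e⟩ := proj_iso pX pY U Z' y (section_eq_id pX pY y hy)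
    ((Pi1Ext.Spread.restrictComp jy (pullback.fst pX pY) (𝟙 X) h₁.symm W).symm ≪≫ Pi1Ext.Spread.restrictId W)
    k y' jy' pX (pullback.lift_snd _ _ _)
  exact ⟨(Pi1Ext.Spread.restrictId W).symm ≪≫ Pi1Ext.Spread.restrictComp jy' (pullback.fst pX pY) (𝟙 X) h₁'.symm W ≪≫ e⟩

end Groth.Agent.FamConst
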