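import Groth.Agent.Pi1X.GaloisUnique
import Groth.Agent.Pi1X.FEtColim
import Groth.Agent.Pi1X.FEtFull

/-! A connected cover splitting a given cover. -/

set_option autoImplicit false
set_option linter.style.haveILetI false
set_option backward.isDefEq.respectTransparency false
set_option backward.isDefEq.respectTransparency.types false
universe u

open CategoryTheory CategoryTheory.Limits AlgebraicGeometry TopologicalSpace

noncomputable section

namespace Groth.Agent.FamConst

theorem connectedSpace_left {Y : Scheme.{u}} (A : FEt.Cat Y) [PreGaloisCategory.IsConnected A]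
    [Nonempty A.left] : ConnectedSpace A.left := by
  rw [connectedSpace_iff_clopen]
  refine ⟨inferInstance, fun C hC => ?_⟩
  let U : A.left.Opens := ⟨C, hC.2⟩
  rcases C.eq_empty_or_nonempty with h | ⟨x, hx⟩
  · exact Or.inl h
  right
  let B : FEt.Cat Y := MorphismProperty.Over.mk ⊤ (U.ι ≫ A.hom)
    (MorphismProperty.comp_mem _ _ _ (Pi1X.prop_ι_of_isClopen U hC.1) A.prop)
  let i : B ⟶ A := MorphismProperty.Over.homMk U.ι rfl trivial
  haveI : Mono i := ⟨fun {Z} a b h => MorphismProperty.Over.Hom.ext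
    ((cancel_mono U.ι).1 (congrArg (fun m => m.left) h :))⟩
  have hB : IsInitial B → False := fun hI => by
    let m := (hI.to (Pi1X.emptyCover Y)).left
    haveI : IsEmpty ↥(Pi1X.emptyCover Y).left := inferInstanceAs (IsEmpty ↥(⊥_ Scheme.{u}))
    exact isEmptyElim (m ⟨x, hx⟩)
  haveI := PreGaloisCategory.IsConnected.noTrivialComponent B i hB
  haveI : IsIso U.ι :=
    inferInstanceAs (IsIso ((MorphismProperty.Over.forget FEt.prop ⊤ Y ⋙ CategoryTheory.Over.forget Y).map i))
  ext z
  simp only [Set.mem_univ, iff_true]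
  obtain ⟨w, rfl⟩ := U.ι.surjective z
  exact w.2

theorem exists_split_cover {Y : Scheme.{u}} [ConnectedSpace Y] (W : FEt.Cat Y) :
    ∃ A : FEt.Cat Y, ConnectedSpace A.left ∧ Surjective A.hom ∧
      ∀ z : ↥(pullback W.hom A.hom), ∃ σ : A.left ⟶ pullback W.hom A.hom,
        σ ≫ pullback.snd W.hom A.hom = 𝟙 _ ∧ z ∈ Set.range σ := by
  haveI := Pi1X.galoisCategory (S := Y)
  obtain ⟨y₀⟩ := (inferInstance : Nonempty Y)
  obtain ⟨Ω, _, _, ξ, -⟩ := Pi1X.exists_geometric_point y₀
  obtain ⟨A, a, hA, hbij⟩ := PreGaloisCategory.exists_galois_representative (Pi1X.fiberFin ξ) W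
  haveI := hA.toIsConnected
  haveI : Nonempty A.left := ⟨a.1 (IsLocalRing.closedPoint Ω)⟩
  haveI : ConnectedSpace A.left := connectedSpace_left A
  haveI : Nonempty ↥((𝟭 Scheme.{u}).obj A.left) := ‹Nonempty A.left›
  haveI : PreconnectedSpace ↥((Functor.fromPUnit Y).obj A.right) := inferInstanceAs (PreconnectedSpace Y)
  haveI hsurj : Surjective A.hom :=
    ⟨Set.range_eq_univ.1 (IsClopen.eq_univ (Pi1X.isClopen_range A.prop) (Set.range_nonempty _))⟩
  refine ⟨A, inferInstance, hsurj, fun z => ?_⟩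
  obtain ⟨Ω', _, _, ζ, hζ⟩ := Pi1X.exists_geometric_point z
  let ξ' : Spec (CommRingCat.of Ω') ⟶ Y := ζ ≫ pullback.snd W.hom A.hom ≫ A.hom
  let F' := Pi1X.fiberFin ξ'
  let w : F'.obj W := ⟨ζ ≫ pullback.fst W.hom A.hom, by
    show (ζ ≫ pullback.fst W.hom A.hom) ≫ W.hom = ζ ≫ pullback.snd W.hom A.hom ≫ A.hom
    rw [Category.assoc, pullback.condition]⟩
  let α : F'.obj A := ⟨ζ ≫ pullback.snd W.hom A.hom, Category.assoc _ _ _⟩
  let ev : (A ⟶ W) → F'.obj W := fun g => F'.map g α
  have hinj : Function.Injective ev := PreGaloisCategory.evaluation_injective_of_isConnected F' A W α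
  have hsur : Function.Surjective ev := by
    obtain ⟨e⟩ := Pi1X.nonempty_fiber_iso ξ ξ'
    have h1 : Nat.card (A ⟶ W) = Nat.card ((Pi1X.fiberFin ξ).obj W) := Nat.card_eq_of_bijective _ hbij
    haveI : Finite (A ⟶ W) := Finite.of_injective _ hinj
    refine ((Nat.bijective_iff_injective_and_card ev).2 ⟨hinj, h1.trans ?_⟩).2
    exact Nat.card_congr ((e.app W).toEquiv)
  obtain ⟨g, hg⟩ := hsur w
  have hg' : (ζ ≫ pullback.snd W.hom A.hom) ≫ g.left = ζ ≫ pullback.fst W.hom A.hom := congrArg Subtype.val hg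
  refine ⟨pullback.lift g.left (𝟙 _) ((MorphismProperty.Over.w g).trans (Category.id_comp _).symm),
    pullback.lift_snd _ _ _, pullback.snd W.hom A.hom z, ?_⟩
  have he : (ζ ≫ pullback.snd W.hom A.hom) ≫
      pullback.lift g.left (𝟙 _) ((MorphismProperty.Over.w g).trans (Category.id_comp _).symm) = ζ := by
    apply pullback.hom_ext
    · rw [Category.assoc, pullback.lift_fst, hg']
    · rw [Category.assoc, pullback.lift_snd, Category.comp_id]
  rw [← hζ]
  conv_rhs => rw [← he]
  rfl

end Groth.Agent.FamConst
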