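import Groth.Agent.FamConst.BaseChange
import Groth.Agent.FamConst.Split
import Groth.Agent.HomotopySeq.Split
import Groth.Agent.AlgSpDec.OneFlat

/-! Covers of a product with a proper factor. -/

set_option autoImplicit false
set_option linter.style.haveILetI false
set_option backward.isDefEq.respectTransparency false
set_option backward.isDefEq.respectTransparency.types false
universe u

open CategoryTheory CategoryTheory.Limits AlgebraicGeometry TopologicalSpace

noncomputable section

namespace Groth.Agent.FamConst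

open Pi1Ext.Spread

/-- Every point lies on a section. -/
def IsSplit {T : Scheme.{u}} (V : FEt.Cat T) : Prop :=
  ∀ z : V.left, ∃ σ : T ⟶ V.left, σ ≫ V.hom = 𝟙 _ ∧ z ∈ Set.range σ

theorem IsSplit.of_iso {T : Scheme.{u}} {V V' : FEt.Cat T} (h : IsSplit V) (e : V ≅ V') : IsSplit V' := fun z => by
  obtain ⟨σ, hσ, x, hx⟩ := h (e.inv.left z)
  refine ⟨σ ≫ e.hom.left, by rw [Category.assoc, MorphismProperty.Over.w e.hom, hσ], x, ?_⟩
  have h2 : e.inv.left ≫ e.hom.left = 𝟙 _ := congrArg (fun m => m.left) e.inv_hom_id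
  calc (σ ≫ e.hom.left) x = e.hom.left (e.inv.left z) := by rw [← hx]; rfl
    _ = (e.inv.left ≫ e.hom.left) z := rfl
    _ = z := by rw [h2]; rfl

theorem IsSplit.restrict {T T' : Scheme.{u}} {V : FEt.Cat T} (h : IsSplit V) (m : T' ⟶ T) :
    IsSplit ((FEt.restrict m).obj V) := fun z => by
  haveI : IsFinite V.hom := V.prop.1
  haveI : Etale V.hom := V.prop.2
  obtain ⟨σ, hσ, hz⟩ := h (pullback.fst V.hom m z)
  haveI : IsSplitMono σ := ⟨⟨⟨V.hom, hσ⟩⟩⟩
  haveI : Etale (σ ≫ V.hom) := by rw [hσ]; infer_instance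
  haveI : Etale σ := Etale.of_comp σ V.hom
  haveI : IsOpenImmersion σ := IsOpenImmersion.of_flat_of_mono σ
  obtain ⟨Ω, _, _, ζ, hζ⟩ := Pi1X.exists_geometric_point (S := pullback V.hom m) z
  have hrange : Set.range (ζ ≫ pullback.fst V.hom m) ⊆ Set.range σ := by
    rintro _ ⟨p, rfl⟩
    rw [Pi1X.eq_closedPoint p, Scheme.Hom.comp_apply, hζ]
    exact hz
  let l := IsOpenImmersion.lift σ (ζ ≫ pullback.fst V.hom m) hrange
  have hl : l ≫ σ = ζ ≫ pullback.fst V.hom m := IsOpenImmersion.lift_fac _ _ _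
  have hl' : l = ζ ≫ pullback.snd V.hom m ≫ m := by
    have := congrArg (· ≫ V.hom) hl
    simp only [Category.assoc, hσ, Category.comp_id] at this
    rw [this, pullback.condition]
  refine ⟨pullback.lift (m ≫ σ) (𝟙 _) (by rw [Category.assoc, hσ, Category.comp_id, Category.id_comp]),
    pullback.lift_snd _ _ _, pullback.snd V.hom m z, ?_⟩
  have he : ζ ≫ pullback.snd V.hom m ≫
      pullback.lift (m ≫ σ) (𝟙 _) (by rw [Category.assoc, hσ, Category.comp_id, Category.id_comp]) = ζ := by
    apply pullback.hom_ext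
    · simp only [Category.assoc, pullback.lift_fst]
      rw [← hl, hl', Category.assoc, Category.assoc]
    · simp only [Category.assoc, pullback.lift_snd, Category.comp_id]
  rw [← hζ]
  conv_rhs => rw [← he]
  rfl

theorem essSurj_of_isPullback {k k' : Type u} [Field k] [Field k'] [IsAlgClosed k] [IsAlgClosed k']
    {X P : Scheme.{u}} {pX : X ⟶ Spec (CommRingCat.of k)} [IsProper pX]
    {b : Spec (CommRingCat.of k') ⟶ Spec (CommRingCat.of k)} {p : P ⟶ X} {q : P ⟶ Spec (CommRingCat.of k')}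
    (h : IsPullback p q pX b) : (FEt.restrict p).EssSurj := by
  obtain ⟨φ, rfl⟩ := Spec.map_surjective b
  letI : Algebra k k' := φ.hom.toAlgebra
  haveI := isEquivalence_baseChange k k' pX
  let e := h.isoPullback
  have he : e.hom ≫ pullback.fst pX (Spec.map φ) = p := h.isoPullback_hom_fst
  refine ⟨fun V => ?_⟩
  obtain ⟨W, ⟨eW⟩⟩ : (FEt.restrict (pullback.fst pX (Spec.map φ))).essImage ((FEt.restrict e.inv).obj V) :=
    (inferInstance : (FEt.restrict (pullback.fst pX (Spec.map (CommRingCat.ofHom (algebraMap k k'))))).EssSurj).mem_essImage _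
  exact ⟨W, ⟨restrictComp e.hom (pullback.fst pX (Spec.map φ)) p he.symm W ≪≫ (FEt.restrict e.hom).mapIso eW ≪≫
    (restrictComp e.hom e.inv (𝟙 P) e.hom_inv_id.symm V).symm ≪≫ restrictId V⟩⟩

variable {k : Type u} [Field k] [IsAlgClosed k]

/-- A cover of a product with a connected proper factor comes from the other factor after a connected cover. -/
theorem exists_split_product {X Y : Scheme.{u}} (pX : X ⟶ Spec (CommRingCat.of k)) (pY : Y ⟶ Spec (CommRingCat.of k))
    [IsProper pX] [ConnectedSpace X] [ConnectedSpace Y] (Z' : FEt.Cat (pullback pX pY)) :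
    ∃ (A : FEt.Cat X) (N : FEt.Cat Y), ConnectedSpace A.left ∧ Surjective A.hom ∧
      Nonempty ((FEt.restrict (pullback.snd (A.hom ≫ pX) pY)).obj N ≅
        (FEt.restrict (pullback.map (A.hom ≫ pX) pY pX pY A.hom (𝟙 Y) (𝟙 _)
          (Category.comp_id _) (by rw [Category.comp_id, Category.id_comp]))).obj Z') := by
  obtain ⟨y₀⟩ := (inferInstance : Nonempty Y)
  obtain ⟨Ω, _, _, t, -⟩ := Pi1X.exists_geometric_point y₀
  let f₀ := pullback.snd pX pY
  let p := pullback.fst f₀ t ≫ pullback.fst pX pY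
  have hp : IsPullback p (pullback.snd f₀ t) pX (t ≫ pY) :=
    (IsPullback.of_hasPullback f₀ t).paste_horiz (IsPullback.of_hasPullback pX pY)
  haveI := essSurj_of_isPullback hp
  obtain ⟨W₀, ⟨eW⟩⟩ := Functor.EssSurj.mem_essImage (F := FEt.restrict p) ((FEt.restrict (pullback.fst f₀ t)).obj Z')
  obtain ⟨A, hAc, hAs, hsplit⟩ := exists_split_cover W₀
  refine ⟨A, ?_⟩
  have hsp : IsSplit ((FEt.restrict A.hom).obj W₀) := hsplit
  haveI : IsFinite A.hom := A.prop.1
  let a : A.left ⟶ X := A.hom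
  haveI : IsFinite a := A.prop.1
  let pA := a ≫ pX
  let R := A.left.nilradical.subscheme
  let ρ : R ⟶ A.left := A.left.nilradical.subschemeι
  haveI : IsReduced R := H23.RedSub.isReduced_nilradical _
  haveI : Surjective ρ := ⟨Set.range_eq_univ.1 (by
    rw [Scheme.IdealSheafData.range_subschemeι, Scheme.support_nilradical]; rfl)⟩
  haveI : ConnectedSpace R := CompleteMid.connectedSpace_of_homeo ρ
  let pR := ρ ≫ pA
  haveI : IsProper pR := inferInstance
  let fR := pullback.snd pR pY
  haveI : GeometricallyReduced fR := geometricallyReduced_proj pR pY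
  haveI : GeometricallyConnected fR := geometricallyConnected_proj pR pY
  haveI : Flat fR := MorphismProperty.pullback_snd _ _ inferInstance
  haveI : LocallyOfFinitePresentation fR := MorphismProperty.pullback_snd _ _ inferInstance
  let m : pullback pA pY ⟶ pullback pX pY := pullback.map pA pY pX pY a (𝟙 Y) (𝟙 _)
    (Category.comp_id _) (by rw [Category.comp_id, Category.id_comp])
  let n : pullback pR pY ⟶ pullback pA pY := pullback.map pR pY pA pY ρ (𝟙 Y) (𝟙 _)
    (Category.comp_id _) (by rw [Category.comp_id, Category.id_comp])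
  let V := (FEt.restrict n).obj ((FEt.restrict m).obj Z')
  let u : pullback fR t ⟶ pullback f₀ t := pullback.lift (pullback.fst fR t ≫ n ≫ m) (pullback.snd fR t) (by
    rw [← pullback.condition]; simp [fR, f₀, n, m])
  have hu : u ≫ pullback.fst f₀ t = pullback.fst fR t ≫ n ≫ m := pullback.lift_fst _ _ _
  have hu' : u ≫ p = (pullback.fst fR t ≫ pullback.fst pR pY ≫ ρ) ≫ a := by
    simp only [p, u, pullback.lift_fst_assoc, n, m, Category.assoc, pullback.lift_fst, pullback.map]
  have hV : IsSplit ((FEt.restrict (pullback.fst fR t)).obj V) := by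
    refine (hsp.restrict (pullback.fst fR t ≫ pullback.fst pR pY ≫ ρ)).of_iso ?_
    exact restrictSquare _ a u p hu'.symm W₀ ≪≫ (FEt.restrict u).mapIso eW ≪≫
      restrictSquare u _ (pullback.fst fR t) (n ≫ m) hu Z' ≪≫
      (FEt.restrict (pullback.fst fR t)).mapIso (restrictComp n m (n ≫ m) rfl Z')
  obtain ⟨N, ⟨eN⟩⟩ := HomotopySeq.essImage_of_split fR V Ω t hV
  refine ⟨N, hAc, hAs, ?_⟩
  have hn : IsPullback (pullback.fst pR pY) n ρ (pullback.fst pA pY) := by
    refine IsPullback.of_bot ?_ (pullback.lift_fst _ _ _).symm (IsPullback.of_hasPullback pA pY)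
    rw [show n ≫ pullback.snd pA pY = pullback.snd pR pY from (pullback.lift_snd _ _ _).trans (Category.comp_id _)]
    exact IsPullback.of_hasPullback pR pY
  haveI : IsClosedImmersion n := MorphismProperty.of_isPullback (P := @IsClosedImmersion) hn inferInstance
  haveI : Surjective n := MorphismProperty.of_isPullback (P := @Surjective) hn inferInstance
  haveI := (Pi1X.restrict_fullyFaithful_of_homeo n).1
  haveI := (Pi1X.restrict_fullyFaithful_of_homeo n).2
  exact ⟨(FEt.restrict n).preimageIso ((restrictComp n (pullback.snd pA pY) fR (by simp [fR, n]) N).symm ≪≫ eN)⟩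

/-- A family of covers parametrised by a connected proper scheme is constant. -/
theorem const_of_proper_base {X Y : Scheme.{u}} (pX : X ⟶ Spec (CommRingCat.of k)) (pY : Y ⟶ Spec (CommRingCat.of k))
    [IsProper pY] [ConnectedSpace Y] [IsLocallyNoetherian X] (Z' : FEt.Cat (pullback pX pY))
    (y y' : Spec (CommRingCat.of k) ⟶ Y) (hy : 𝟙 X ≫ pX = (pX ≫ y) ≫ pY) (hy' : 𝟙 X ≫ pX = (pX ≫ y') ≫ pY) :
    Nonempty ((FEt.restrict (pullback.lift (𝟙 X) (pX ≫ y) hy)).obj Z' ≅
      (FEt.restrict (pullback.lift (𝟙 X) (pX ≫ y') hy')).obj Z') := by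
  cases isEmpty_or_nonempty X
  · exact nonempty_iso_of_isEmpty _ _
  have hy₁ := section_eq_id pX pY y hy
  have hy₁' := section_eq_id pX pY y' hy'
  haveI : LocallyConnectedSpace X := H23.LocNoethTop.locallyConnectedSpace fun x => by
    obtain ⟨W, hW, hxW, -⟩ := exists_isAffineOpen_mem_and_subset (x := x) (U := (⊤ : X.Opens)) trivial
    haveI := IsLocallyNoetherian.component_noetherian (⟨W, hW⟩ : X.affineOpens)
    exact ⟨W, W.isOpen.mem_nhds hxW, noetherianSpace_of_isAffineOpen W hW⟩
  let ι := {C : X.Opens // IsClosed (C : Set X) ∧ _root_.IsConnected (C : Set X)}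
  refine iso_of_pieces _ _ (fun C : ι => C.1) (fun C C' hne x hx hx' => hne ?_) (fun x => ?_) fun C => ?_
  · have hsub : ∀ A B : ι, x ∈ A.1 → x ∈ B.1 → (A.1 : Set X) ⊆ B.1 := fun A B hA hB =>
      A.2.2.isPreconnected.subset_isClopen ⟨B.2.1, B.1.isOpen⟩ ⟨_, hA, hB⟩
    exact Subtype.ext (TopologicalSpace.Opens.ext (Set.Subset.antisymm (hsub C C' hx hx') (hsub C' C hx' hx)))
  · exact ⟨⟨⟨connectedComponent x, isOpen_connectedComponent⟩, isClosed_connectedComponent,
      isConnected_connectedComponent⟩, mem_connectedComponent⟩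
  haveI : ConnectedSpace C.1 := isConnected_iff_connectedSpace.1 C.2.2
  let pC := C.1.ι ≫ pX
  let s : pullback pY pC ⟶ pullback pX pY := pullback.lift (pullback.snd pY pC ≫ C.1.ι) (pullback.fst pY pC)
    (by rw [Category.assoc]; exact pullback.condition.symm)
  obtain ⟨A, N, hAc, hAs, ⟨eA⟩⟩ := exists_split_product pY pC ((FEt.restrict s).obj Z')
  haveI : IsFinite A.hom := A.prop.1
  haveI : Etale A.hom := A.prop.2
  have key : ∀ (z : Spec (CommRingCat.of k) ⟶ Y) (hz : z ≫ pY = 𝟙 _) (hzX : 𝟙 X ≫ pX = (pX ≫ z) ≫ pY),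
      Nonempty ((FEt.restrict C.1.ι).obj ((FEt.restrict (pullback.lift (𝟙 X) (pX ≫ z) hzX)).obj Z') ≅ N) := by
    intro z hz hzX
    obtain ⟨w, hw⟩ := A.hom.surjective (z (IsLocalRing.closedPoint k))
    obtain ⟨⟨c, hc⟩, -⟩ := Pi1X.exists_lift_at z A.hom w hw
    let a : A.left ⟶ Y := A.hom
    replace hc : c ≫ a = z := hc
    let jA : (C.1 : Scheme.{u}) ⟶ pullback (a ≫ pY) pC := pullback.lift (pC ≫ c) (𝟙 _) (by
      rw [Category.assoc, ← Category.assoc c, hc, hz, Category.comp_id, Category.id_comp])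
    let mA : pullback (a ≫ pY) pC ⟶ pullback pY pC := pullback.map (a ≫ pY) pC pY pC a (𝟙 _) (𝟙 _)
      (Category.comp_id _) (by rw [Category.comp_id, Category.id_comp])
    have h₁ : C.1.ι ≫ pullback.lift (𝟙 X) (pX ≫ z) hzX = (jA ≫ mA) ≫ s := by
      apply pullback.hom_ext
      · simp only [Category.assoc, jA, mA, s, pC, pullback.map, pullback.lift_fst, pullback.lift_snd, pullback.lift_snd_assoc, Category.comp_id, Category.id_comp]
      · simp only [Category.assoc, jA, mA, s, pC, pullback.map, pullback.lift_snd, pullback.lift_fst,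
          pullback.lift_fst_assoc, hc]
    have h₂ : jA ≫ pullback.snd (a ≫ pY) pC = 𝟙 _ := pullback.lift_snd _ _ _
    exact ⟨restrictSquare C.1.ι (pullback.lift (𝟙 X) (pX ≫ z) hzX) (jA ≫ mA) s h₁ Z' ≪≫
      restrictComp jA mA (jA ≫ mA) rfl ((FEt.restrict s).obj Z') ≪≫ (FEt.restrict jA).mapIso eA.symm ≪≫
      (restrictComp jA (pullback.snd (a ≫ pY) pC) (𝟙 _) h₂.symm N).symm ≪≫ restrictId N⟩
  obtain ⟨e₁⟩ := key y hy₁ hy
  obtain ⟨e₂⟩ := key y' hy₁' hy'
  exact ⟨e₁ ≪≫ e₂.symm⟩

/-- Covers of a product are dominated by products of covers. -/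
theorem exists_dominating {X Y : Scheme.{u}} (pX : X ⟶ Spec (CommRingCat.of k)) (pY : Y ⟶ Spec (CommRingCat.of k))
    [IsProper pX] [ConnectedSpace X] [ConnectedSpace Y] (W : FEt.Cat (pullback pX pY)) :
    ∃ (X' : FEt.Cat X) (Y' : FEt.Cat Y) (φ : pullback (X'.hom ≫ pX) (Y'.hom ≫ pY) ⟶ W.left),
      φ ≫ W.hom = pullback.map (X'.hom ≫ pX) (Y'.hom ≫ pY) pX pY X'.hom Y'.hom (𝟙 _)
        (Category.comp_id _) (Category.comp_id _) ∧ Surjective φ := by
  obtain ⟨A, N, -, hAs, ⟨e⟩⟩ := exists_split_product pX pY W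
  let a : A.left ⟶ X := A.hom
  let m : pullback (a ≫ pX) pY ⟶ pullback pX pY := pullback.map (a ≫ pX) pY pX pY a (𝟙 Y) (𝟙 _)
    (Category.comp_id _) (by rw [Category.comp_id, Category.id_comp])
  let n : N.left ⟶ Y := N.hom
  let κ : pullback (a ≫ pX) (n ≫ pY) ⟶ pullback n (pullback.snd (a ≫ pX) pY) := pullback.lift (pullback.snd _ _)
    (pullback.lift (pullback.fst _ _) (pullback.snd _ _ ≫ n) (by rw [pullback.condition, Category.assoc]))
    (pullback.lift_snd _ _ _).symm
  let κ' : pullback n (pullback.snd (a ≫ pX) pY) ⟶ pullback (a ≫ pX) (n ≫ pY) :=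
    pullback.lift (pullback.snd _ _ ≫ pullback.fst _ _) (pullback.fst _ _) (by
      rw [Category.assoc, pullback.condition, ← Category.assoc, ← pullback.condition, Category.assoc])
  have hκ : IsIso κ := ⟨κ', by
    constructor <;> apply pullback.hom_ext
    · simp [κ, κ']
    · simp [κ, κ']
    · simp [κ, κ']
    · apply pullback.hom_ext
      · simp [κ, κ']
      · simp [κ, κ', pullback.condition]⟩
  let φ : pullback (a ≫ pX) (n ≫ pY) ⟶ W.left := κ ≫ e.hom.left ≫ pullback.fst W.hom m
  have hw : e.hom.left ≫ pullback.snd W.hom m = pullback.snd n (pullback.snd (a ≫ pX) pY) :=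
    MorphismProperty.Over.w e.hom
  refine ⟨A, N, φ, ?_, ?_⟩
  · show (κ ≫ e.hom.left ≫ pullback.fst W.hom m) ≫ W.hom = pullback.map _ _ _ _ a n _ _ _
    rw [Category.assoc, Category.assoc, pullback.condition, ← Category.assoc e.hom.left, hw]
    apply pullback.hom_ext <;> simp [κ, m]
  · haveI : Surjective a := hAs
    have hm : IsPullback (pullback.fst (a ≫ pX) pY) m a (pullback.fst pX pY) := by
      refine IsPullback.of_bot ?_ (pullback.lift_fst _ _ _).symm (IsPullback.of_hasPullback pX pY)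
      rw [show m ≫ pullback.snd pX pY = pullback.snd (a ≫ pX) pY from (pullback.lift_snd _ _ _).trans (Category.comp_id _)]
      exact IsPullback.of_hasPullback (a ≫ pX) pY
    haveI : Surjective m := MorphismProperty.of_isPullback (P := @Surjective) hm inferInstance
    haveI : Surjective (pullback.fst W.hom m) := MorphismProperty.pullback_fst _ _ inferInstance
    haveI : IsIso e.hom.left :=
      inferInstanceAs (IsIso ((MorphismProperty.Over.forget FEt.prop ⊤ _ ⋙ CategoryTheory.Over.forget _).map e.hom))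
    haveI : IsIso κ := hκ
    haveI : Surjective (e.hom.left ≫ pullback.fst W.hom m) := inferInstance
    exact inferInstanceAs (Surjective (κ ≫ e.hom.left ≫ pullback.fst W.hom m))

end Groth.Agent.FamConst
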