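import Groth.Agent.FEtHom.Main
import Groth.Agent.HomotopySeq.Main
import Groth.Agent.Pi1Ext.Spread
import Groth.Agent.H23.LocNoethTop
import Groth.Agent.GrpSchLib.FieldReduced
import Groth.Agent.S2501

/-! Covers which agree on one geometric fibre agree after a finite etale covering of the base. -/

set_option autoImplicit false
set_option linter.style.haveILetI false
set_option backward.isDefEq.respectTransparency false
set_option backward.isDefEq.respectTransparency.types false
universe u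

open CategoryTheory CategoryTheory.Limits AlgebraicGeometry TopologicalSpace

noncomputable section

namespace Groth.Agent.FamConst

variable {k : Type u} [Field k] [IsAlgClosed k]

theorem geometricallyReduced_proj {X Y : Scheme.{u}} (pX : X ⟶ Spec (CommRingCat.of k))
    (pY : Y ⟶ Spec (CommRingCat.of k)) [IsReduced X] : GeometricallyReduced (pullback.snd pX pY) :=
  haveI : GeometricallyReduced pX := SpecializePi.geometricallyReduced_of_isAlgClosed pX fun Ω _ _ s =>
    GrpSchLib.isReduced_pullback_of_perfectField pX s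
  MorphismProperty.pullback_snd _ _ inferInstance

theorem geometricallyConnected_proj {X Y : Scheme.{u}} (pX : X ⟶ Spec (CommRingCat.of k))
    (pY : Y ⟶ Spec (CommRingCat.of k)) [ConnectedSpace X] : GeometricallyConnected (pullback.snd pX pY) :=
  haveI := S2501.result pX
  MorphismProperty.pullback_snd _ _ inferInstance

theorem exists_cover_iso {P Y : Scheme.{u}} (f : P ⟶ Y) [IsProper f] [Flat f] [LocallyOfFinitePresentation f]
    [GeometricallyReduced f] [GeometricallyConnected f] [ConnectedSpace Y] [IsLocallyNoetherian Y]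
    (U V : FEt.Cat P) (Ω : Type u) [Field Ω] [IsAlgClosed Ω] (t : Spec (CommRingCat.of Ω) ⟶ Y)
    (e : (FEt.restrict (pullback.fst f t)).obj U ≅ (FEt.restrict (pullback.fst f t)).obj V) :
    ∃ S' : FEt.Cat Y, Surjective S'.hom ∧ Nonempty ((FEt.restrict (pullback.fst f S'.hom)).obj U ≅
      (FEt.restrict (pullback.fst f S'.hom)).obj V) := by
  obtain ⟨H, r, hr, hnat⟩ := FEtHom.exists_internalHom_natural U V
  haveI : IsFinite H.hom := H.prop.1
  let hy := FEtHom.homEquiv U V (pullback.fst f t) e.hom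
  obtain ⟨⟨σ₀, hσ₀⟩, hrσ⟩ := (hr (pullback.fst f t)).2 hy
  have hiso₀ : IsIso (FEtHom.lft U V (pullback.fst f t) hy) := by
    have he : FEtHom.lft U V (pullback.fst f t) hy = e.hom.left := by
      apply pullback.hom_ext
      · exact pullback.lift_fst _ _ _
      · exact (pullback.lift_snd _ _ _).trans (MorphismProperty.Over.w e.hom).symm
    rw [he]
    exact inferInstanceAs (IsIso ((MorphismProperty.Over.forget FEt.prop ⊤ _ ⋙ CategoryTheory.Over.forget _).map e.hom))
  haveI : IsLocallyNoetherian P := LocallyOfFiniteType.isLocallyNoetherian f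
  haveI : IsLocallyNoetherian ((Functor.fromPUnit P).obj H.right) := ‹_›
  haveI : IsLocallyNoetherian H.left := LocallyOfFiniteType.isLocallyNoetherian H.hom
  haveI : LocallyConnectedSpace H.left := H23.LocNoethTop.locallyConnectedSpace fun x => by
    obtain ⟨W, hW, hxW, -⟩ := exists_isAffineOpen_mem_and_subset (x := x) (U := (⊤ : H.left.Opens)) trivial
    haveI := IsLocallyNoetherian.component_noetherian (⟨W, hW⟩ : H.left.affineOpens)
    exact ⟨W, W.isOpen.mem_nhds hxW, noetherianSpace_of_isAffineOpen W hW⟩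
  haveI : ConnectedSpace ↥(pullback f t) :=
    GeometricallyConnected.geometrically_connectedSpace (f := f) _ _ _ (.of_hasPullback _ _)
  obtain ⟨x₀⟩ : Nonempty ↥(pullback f t) := inferInstance
  let C : H.left.Opens := ⟨connectedComponent (σ₀ x₀), isOpen_connectedComponent⟩
  have hC : IsClosed (C : Set H.left) := isClosed_connectedComponent
  have hrange : Set.range σ₀ ⊆ Set.range C.ι := by
    rw [Scheme.Opens.range_ι]
    exact (isConnected_range σ₀.continuous).subset_connectedComponent ⟨x₀, rfl⟩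
  let σ := IsOpenImmersion.lift C.ι σ₀ hrange
  have hσ : σ ≫ C.ι = σ₀ := IsOpenImmersion.lift_fac _ _ _
  let H₀ : FEt.Cat P := MorphismProperty.Over.mk ⊤ (C.ι ≫ H.hom)
    (MorphismProperty.comp_mem _ _ _ (Pi1X.prop_ι_of_isClopen C hC) H.prop)
  haveI : ConnectedSpace H₀.left := isConnected_iff_connectedSpace.1 isConnected_connectedComponent
  obtain ⟨S', ⟨eS⟩⟩ := HomotopySeq.essImage_of_section f H₀ Ω t σ
    ((Category.assoc _ _ _).symm.trans ((congrArg (· ≫ H.hom) hσ).trans hσ₀))
  haveI : IsFinite S'.hom := S'.prop.1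
  haveI : Nonempty S'.left := ⟨pullback.fst S'.hom f (eS.inv.left (σ x₀))⟩
  haveI : Nonempty ↥((𝟭 Scheme.{u}).obj S'.left) := ‹Nonempty S'.left›
  haveI : PreconnectedSpace ↥((Functor.fromPUnit Y).obj S'.right) := inferInstanceAs (PreconnectedSpace Y)
  have hsurj : Surjective S'.hom :=
    ⟨Set.range_eq_univ.1 (IsClopen.eq_univ (Pi1X.isClopen_range S'.prop) (Set.range_nonempty _))⟩
  -- the universal morphism over the component is an isomorphism
  let g₀ := C.ι ≫ H.hom
  let h₀ := r g₀ ⟨C.ι, rfl⟩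
  have htr : ∀ {T : Scheme.{u}} (s : T ⟶ H.left) (g₁ g₂ : T ⟶ P) (_ : g₁ = g₂) (p₁ : s ≫ H.hom = g₁)
      (p₂ : s ≫ H.hom = g₂), IsIso (FEtHom.lft U V g₁ (r g₁ ⟨s, p₁⟩)) → IsIso (FEtHom.lft U V g₂ (r g₂ ⟨s, p₂⟩)) := by
    intro T s g₁ g₂ hg p₁ p₂ h
    subst hg
    exact h
  have hiso : IsIso (FEtHom.lft U V g₀ h₀) := FEtHom.isIso_lft_of_points U V g₀ h₀ fun D hD hne => by
    refine ⟨_, σ, r (σ ≫ g₀) ⟨σ ≫ C.ι, Category.assoc _ _ _⟩, x₀, ?_, hnat σ g₀ ⟨C.ι, rfl⟩, ?_⟩
    · haveI : ConnectedSpace C := isConnected_iff_connectedSpace.1 isConnected_connectedComponent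
      rw [hD.eq_univ hne]; trivial
    · refine htr _ (pullback.fst f t) (σ ≫ g₀) ?_ (by rw [hσ]; exact hσ₀) _ ?_
      · rw [← hσ₀, ← hσ, Category.assoc]
      · rw [← hrσ] at hiso₀
        convert hiso₀ using 5
  let j : pullback f S'.hom ⟶ C := (pullbackSymmetry f S'.hom).hom ≫ eS.hom.left
  have hj : j ≫ g₀ = pullback.fst f S'.hom := by
    show ((pullbackSymmetry f S'.hom).hom ≫ eS.hom.left) ≫ g₀ = _
    rw [Category.assoc, show eS.hom.left ≫ g₀ = pullback.snd S'.hom f from MorphismProperty.Over.w eS.hom,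
      pullbackSymmetry_hom_comp_snd]
  let h' : FEtHom.HomData U V (pullback.fst f S'.hom) :=
    ⟨pullback.lift (pullback.fst U.hom _) (pullback.snd U.hom _ ≫ j)
      (by rw [pullback.condition, Category.assoc, hj]) ≫ h₀.1, by
      rw [Category.assoc, h₀.2, ← Category.assoc, pullback.lift_fst]⟩
  haveI := hiso
  haveI := FEtHom.isIso_lft_of_isIso U V j g₀ (pullback.fst f S'.hom) hj h₀ h' rfl
  exact ⟨S', hsurj, ⟨MorphismProperty.Over.isoMk (asIso (FEtHom.lft U V _ h')) (pullback.lift_snd _ _ _)⟩⟩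

/-- Covers which agree on one geometric fibre agree on every geometric fibre. -/
theorem fibre_iso {P Y : Scheme.{u}} (f : P ⟶ Y) [IsProper f] [Flat f] [LocallyOfFinitePresentation f]
    [GeometricallyReduced f] [GeometricallyConnected f] [ConnectedSpace Y] [IsLocallyNoetherian Y]
    (U V : FEt.Cat P) (Ω : Type u) [Field Ω] [IsAlgClosed Ω] (t : Spec (CommRingCat.of Ω) ⟶ Y)
    (e : (FEt.restrict (pullback.fst f t)).obj U ≅ (FEt.restrict (pullback.fst f t)).obj V)
    (Ω' : Type u) [Field Ω'] [IsAlgClosed Ω'] (t' : Spec (CommRingCat.of Ω') ⟶ Y)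
    {T : Scheme.{u}} (j : T ⟶ P) (q : T ⟶ Spec (CommRingCat.of Ω')) (hj : j ≫ f = q ≫ t') :
    Nonempty ((FEt.restrict j).obj U ≅ (FEt.restrict j).obj V) := by
  obtain ⟨S', hs, ⟨eS⟩⟩ := exists_cover_iso f U V Ω t e
  haveI : IsFinite S'.hom := S'.prop.1
  haveI : Etale S'.hom := S'.prop.2
  obtain ⟨w, hw⟩ := S'.hom.surjective (t' (IsLocalRing.closedPoint Ω'))
  obtain ⟨⟨c, hc⟩, -⟩ := Pi1X.exists_lift_at t' S'.hom w hw
  let l : T ⟶ pullback f S'.hom := pullback.lift j (q ≫ c) (by rw [Category.assoc, hc, hj])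
  have hl : j = l ≫ pullback.fst f S'.hom := (pullback.lift_fst _ _ _).symm
  exact ⟨Pi1Ext.Spread.restrictComp l (pullback.fst f S'.hom) j hl U ≪≫ (FEt.restrict l).mapIso eS ≪≫
    (Pi1Ext.Spread.restrictComp l (pullback.fst f S'.hom) j hl V).symm⟩

end Groth.Agent.FamConst
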