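import Groth.Agent.FamConst.Main
import Groth.Agent.H23.RedSub
import Groth.Agent.CompleteMid.Main

/-! Isomorphisms of covers from isomorphisms on disjoint open pieces; covers of products. -/

set_option autoImplicit false
set_option linter.style.haveILetI false
set_option backward.isDefEq.respectTransparency false
set_option backward.isDefEq.respectTransparency.types false
universe u

open CategoryTheory CategoryTheory.Limits AlgebraicGeometry TopologicalSpace

noncomputable section

namespace Groth.Agent.FamConst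

theorem iso_of_pieces {T : Scheme.{u}} (U V : FEt.Cat T) {ι : Type u} (D : ι → T.Opens)
    (hdisj : ∀ i j, i ≠ j → ∀ x, x ∈ D i → x ∉ D j) (hcov : ∀ x, ∃ i, x ∈ D i)
    (e : ∀ i, Nonempty ((FEt.restrict (D i).ι).obj U ≅ (FEt.restrict (D i).ι).obj V)) : Nonempty (U ≅ V) := by
  obtain ⟨H, r, hr, hnat⟩ := FEtHom.exists_internalHom_natural U V
  have hlft : ∀ i, ∃ s : {s : (D i : Scheme.{u}) ⟶ H.left // s ≫ H.hom = (D i).ι},
      IsIso (FEtHom.lft U V (D i).ι (r (D i).ι s)) := fun i => by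
    obtain ⟨ei⟩ := e i
    obtain ⟨s, hs⟩ := (hr (D i).ι).2 (FEtHom.homEquiv U V (D i).ι ei.hom)
    refine ⟨s, ?_⟩
    have he : FEtHom.lft U V (D i).ι (r (D i).ι s) = ei.hom.left := by
      rw [hs]
      apply pullback.hom_ext
      · exact pullback.lift_fst _ _ _
      · exact (pullback.lift_snd _ _ _).trans (MorphismProperty.Over.w ei.hom).symm
    rw [he]
    exact inferInstanceAs (IsIso ((MorphismProperty.Over.forget FEt.prop ⊤ _ ⋙ CategoryTheory.Over.forget _).map ei.hom))
  choose s hs using hlft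
  let 𝒰 : T.OpenCover :=
    { I₀ := ι, X := fun i => D i, f := fun i => (D i).ι,
      mem₀ := by
        rw [Scheme.presieve₀_mem_precoverage_iff]
        refine ⟨fun x => ?_, inferInstance⟩
        obtain ⟨i, hi⟩ := hcov x
        exact ⟨i, ⟨x, hi⟩, rfl⟩ }
  have hcompat : ∀ i j : ι, pullback.fst (D i).ι (D j).ι ≫ (s i).1 = pullback.snd (D i).ι (D j).ι ≫ (s j).1 := by
    intro i j
    rcases eq_or_ne i j with rfl | hij
    · have : pullback.fst (D i).ι (D i).ι = pullback.snd (D i).ι (D i).ι := by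
        rw [← cancel_mono (D i).ι]; exact pullback.condition
      rw [this]
    · haveI : IsEmpty ↥(pullback (D i).ι (D j).ι) := ⟨fun z => hdisj i j hij _
        (pullback.fst (D i).ι (D j).ι z).2 (by
          have h := (pullback.snd (D i).ι (D j).ι z).2
          have e : (D i).ι (pullback.fst (D i).ι (D j).ι z) = (D j).ι (pullback.snd (D i).ι (D j).ι z) := by
            rw [← Scheme.Hom.comp_apply, pullback.condition, Scheme.Hom.comp_apply]
          exact (congrArg (· ∈ D j) e).mpr h)⟩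
      exact isInitialOfIsEmpty.hom_ext _ _
  let S₀ := 𝒰.glueMorphisms (fun i => (s i).1) hcompat
  have hS₀ : ∀ i, (D i).ι ≫ S₀ = (s i).1 := fun i => 𝒰.ι_glueMorphisms _ hcompat i
  have hw : S₀ ≫ H.hom = 𝟙 T := 𝒰.hom_ext _ _ fun i => by
    show (D i).ι ≫ S₀ ≫ H.hom = (D i).ι ≫ 𝟙 T
    rw [← Category.assoc, hS₀, (s i).2, Category.comp_id]
  have htr : ∀ {A : Scheme.{u}} (a a' : A ⟶ H.left) (g₁ g₂ : A ⟶ T) (_ : g₁ = g₂) (_ : a = a')
      (p₁ : a ≫ H.hom = g₁) (p₂ : a' ≫ H.hom = g₂),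
      IsIso (FEtHom.lft U V g₁ (r g₁ ⟨a, p₁⟩)) → IsIso (FEtHom.lft U V g₂ (r g₂ ⟨a', p₂⟩)) := by
    intro A a a' g₁ g₂ hg ha p₁ p₂ h
    subst hg; subst ha
    exact h
  have hiso : IsIso (FEtHom.lft U V (𝟙 T) (r (𝟙 T) ⟨S₀, hw⟩)) :=
    FEtHom.isIso_lft_of_points U V (𝟙 T) _ fun C _ hne => by
      obtain ⟨x, hx⟩ := hne
      obtain ⟨i, hi⟩ := hcov x
      exact ⟨_, (D i).ι, _, ⟨x, hi⟩, hx, hnat (D i).ι (𝟙 T) ⟨S₀, hw⟩,
        htr _ _ _ _ (Category.comp_id _).symm (hS₀ i).symm (s i).2 _ (hs i)⟩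
  let eT : (FEt.restrict (𝟙 T)).obj U ≅ (FEt.restrict (𝟙 T)).obj V :=
    MorphismProperty.Over.isoMk (asIso (FEtHom.lft U V (𝟙 T) (r (𝟙 T) ⟨S₀, hw⟩))) (pullback.lift_snd _ _ _)
  exact ⟨(Pi1Ext.Spread.restrictId U).symm ≪≫ eT ≪≫ Pi1Ext.Spread.restrictId V⟩

variable {k : Type u} [Field k] [IsAlgClosed k]

/-- Two covers of a product which agree on one rational fibre agree on every geometric fibre. -/
theorem proj_iso {X Y : Scheme.{u}} (pX : X ⟶ Spec (CommRingCat.of k)) (pY : Y ⟶ Spec (CommRingCat.of k))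
    [IsProper pX] [ConnectedSpace Y] [IsLocallyNoetherian Y]
    (U V : FEt.Cat (pullback pX pY)) (y : Spec (CommRingCat.of k) ⟶ Y) (hy : y ≫ pY = 𝟙 _)
    (e : (FEt.restrict (pullback.lift (𝟙 X) (pX ≫ y) (by rw [Category.assoc, hy, Category.comp_id, Category.id_comp]))).obj U ≅
      (FEt.restrict (pullback.lift (𝟙 X) (pX ≫ y) (by rw [Category.assoc, hy, Category.comp_id, Category.id_comp]))).obj V)
    (Ω' : Type u) [Field Ω'] [IsAlgClosed Ω'] (t' : Spec (CommRingCat.of Ω') ⟶ Y)
    {T : Scheme.{u}} (j : T ⟶ pullback pX pY) (q : T ⟶ Spec (CommRingCat.of Ω'))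
    (hj : j ≫ pullback.snd pX pY = q ≫ t') :
    Nonempty ((FEt.restrict j).obj U ≅ (FEt.restrict j).obj V) := by
  haveI : IsLocallyNoetherian X := LocallyOfFiniteType.isLocallyNoetherian pX
  haveI : LocallyConnectedSpace X := H23.LocNoethTop.locallyConnectedSpace fun x => by
    obtain ⟨W, hW, hxW, -⟩ := exists_isAffineOpen_mem_and_subset (x := x) (U := (⊤ : X.Opens)) trivial
    haveI := IsLocallyNoetherian.component_noetherian (⟨W, hW⟩ : X.affineOpens)
    exact ⟨W, W.isOpen.mem_nhds hxW, noetherianSpace_of_isAffineOpen W hW⟩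
  let ι := {C : X.Opens // IsClosed (C : Set X) ∧ _root_.IsConnected (C : Set X)}
  let l := j ≫ pullback.fst pX pY
  refine iso_of_pieces _ _ (fun C : ι => l ⁻¹ᵁ C.1) (fun C C' hne x hx hx' => hne ?_) (fun x => ?_) fun C => ?_
  · have hsub : ∀ A B : ι, l x ∈ A.1 → l x ∈ B.1 → (A.1 : Set X) ⊆ B.1 := fun A B hA hB =>
      A.2.2.isPreconnected.subset_isClopen ⟨B.2.1, B.1.isOpen⟩ ⟨_, hA, hB⟩
    exact Subtype.ext (TopologicalSpace.Opens.ext (Set.Subset.antisymm (hsub C C' hx hx') (hsub C' C hx' hx)))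
  · exact ⟨⟨⟨connectedComponent (l x), isOpen_connectedComponent⟩, isClosed_connectedComponent,
      isConnected_connectedComponent⟩, mem_connectedComponent⟩
  let D := l ⁻¹ᵁ C.1
  let R := (C.1 : Scheme.{u}).nilradical.subscheme
  let ρ : R ⟶ (C.1 : Scheme.{u}) := (C.1 : Scheme.{u}).nilradical.subschemeι
  haveI : IsReduced R := H23.RedSub.isReduced_nilradical _
  haveI : Surjective ρ := ⟨Set.range_eq_univ.1 (by
    rw [Scheme.IdealSheafData.range_subschemeι, Scheme.support_nilradical]; rfl)⟩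
  haveI : ConnectedSpace R := by
    haveI : ConnectedSpace C.1 := isConnected_iff_connectedSpace.1 C.2.2
    exact CompleteMid.connectedSpace_of_homeo ρ
  haveI : IsClosedImmersion C.1.ι := IsClosedImmersion.of_isPreimmersion C.1.ι (by
    rw [Scheme.Opens.range_ι]; exact C.2.1)
  let i : R ⟶ X := ρ ≫ C.1.ι
  let pR := i ≫ pX
  haveI : IsProper pR := inferInstance
  haveI : Flat pR := inferInstance
  haveI : LocallyOfFinitePresentation pR := inferInstance
  let fR := pullback.snd pR pY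
  haveI : GeometricallyReduced fR := geometricallyReduced_proj pR pY
  haveI : GeometricallyConnected fR := geometricallyConnected_proj pR pY
  let m : pullback pR pY ⟶ pullback pX pY :=
    pullback.lift (pullback.fst pR pY ≫ i) fR (by rw [Category.assoc]; exact pullback.condition)
  let a := pullback.fst (pullback.snd pR pY) y ≫ pullback.fst pR pY ≫ i
  have ha : pullback.fst fR y ≫ m = a ≫ pullback.lift (𝟙 X) (pX ≫ y)
      (by rw [Category.assoc, hy, Category.comp_id, Category.id_comp]) := by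
    apply pullback.hom_ext
    · simp only [m, a, fR, Category.assoc, pullback.lift_fst, Category.comp_id]
    · simp only [m, a, fR, Category.assoc, pullback.lift_snd]
      have h1 : pullback.snd (pullback.snd pR pY) y =
          pullback.fst (pullback.snd pR pY) y ≫ pullback.fst pR pY ≫ pR := by
        rw [pullback.condition, pullback.condition_assoc, hy, Category.comp_id]
      rw [pullback.condition, h1]
      simp [pR]
  let eR : (FEt.restrict (pullback.fst fR y)).obj ((FEt.restrict m).obj U) ≅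
      (FEt.restrict (pullback.fst fR y)).obj ((FEt.restrict m).obj V) :=
    Pi1Ext.Spread.restrictSquare _ m a _ ha U ≪≫ (FEt.restrict a).mapIso e ≪≫
      (Pi1Ext.Spread.restrictSquare _ m a _ ha V).symm
  let N := pullback (l ∣_ C.1) ρ
  let n : N ⟶ (D : Scheme.{u}) := pullback.fst (l ∣_ C.1) ρ
  haveI : IsClosedImmersion n := MorphismProperty.pullback_fst _ _ inferInstance
  let jR : N ⟶ pullback pR pY :=
    pullback.lift (pullback.snd (l ∣_ C.1) ρ) (n ≫ D.ι ≫ j ≫ pullback.snd pX pY) (by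
      show pullback.snd (l ∣_ C.1) ρ ≫ (ρ ≫ C.1.ι) ≫ pX = _
      simp only [Category.assoc]
      rw [← pullback.condition_assoc, morphismRestrict_ι_assoc, ← pullback.condition]
      simp [n, l, D])
  have hn : jR ≫ m = n ≫ D.ι ≫ j := by
    apply pullback.hom_ext
    · simp only [m, i, Category.assoc, pullback.lift_fst, jR, pullback.lift_fst_assoc]
      rw [← pullback.condition_assoc, morphismRestrict_ι]
    · simp only [m, fR, Category.assoc, pullback.lift_snd, jR]
  obtain ⟨eN⟩ := fibre_iso fR ((FEt.restrict m).obj U) ((FEt.restrict m).obj V) k y eR Ω' t' jR (n ≫ D.ι ≫ q)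
    (by simp only [fR, jR, pullback.lift_snd, Category.assoc, hj])
  haveI := (Pi1X.restrict_fullyFaithful_of_homeo n).1
  haveI := (Pi1X.restrict_fullyFaithful_of_homeo n).2
  exact ⟨(FEt.restrict n).preimageIso
    ((FEt.restrict n).mapIso (Pi1Ext.Spread.restrictComp D.ι j (D.ι ≫ j) rfl U).symm ≪≫
      Pi1Ext.Spread.restrictSquare n (D.ι ≫ j) jR m hn.symm U ≪≫ eN ≪≫
      (Pi1Ext.Spread.restrictSquare n (D.ι ≫ j) jR m hn.symm V).symm ≪≫
      (FEt.restrict n).mapIso (Pi1Ext.Spread.restrictComp D.ι j (D.ι ≫ j) rfl V))⟩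

end Groth.Agent.FamConst
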