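import Groth.Agent.FamConst.BaseChange
import Groth.Agent.S0289

/-! Finite etale covers of proper schemes under extensions of separably closed fields. -/

set_option autoImplicit false
set_option linter.style.haveILetI false
set_option backward.isDefEq.respectTransparency false
set_option backward.isDefEq.respectTransparency.types false
universe u

open CategoryTheory CategoryTheory.Limits AlgebraicGeometry

noncomputable section

namespace Groth.Agent.FamConst

theorem isEquivalence_insep {k L : Type u} [Field k] [Field L] [Algebra k L] [IsPurelyInseparable k L]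
    {X : Scheme.{u}} (f : X ⟶ Spec (CommRingCat.of k)) :
    (FEt.restrict (pullback.fst f (Spec.map (CommRingCat.ofHom (algebraMap k L))))).IsEquivalence := by
  let π := Spec.map (CommRingCat.ofHom (algebraMap k L))
  haveI : UniversallyInjective π := CompleteMid.universallyInjective_spec k L
  haveI : IsIntegralHom π := IsIntegralHom.SpecMap_iff.2 (algebraMap_isIntegral_iff.2 inferInstance)
  haveI : Surjective π := GrpSchLib.surjective_spec_map_field _
  haveI : UniversallyInjective (pullback.fst f π) := MorphismProperty.pullback_fst _ _ inferInstance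
  haveI : IsIntegralHom (pullback.fst f π) := MorphismProperty.pullback_fst _ _ inferInstance
  haveI : Surjective (pullback.fst f π) := MorphismProperty.pullback_fst _ _ inferInstance
  exact Groth.Agent.S0289.result _

theorem isEquivalence_baseChange_sepClosed (k K : Type u) [Field k] [Field K] [IsSepClosed k] [IsSepClosed K]
    [Algebra k K] {X : Scheme.{u}} (f : X ⟶ Spec (CommRingCat.of k)) [IsProper f] :
    (FEt.restrict (pullback.fst f (Spec.map (CommRingCat.ofHom (algebraMap k K))))).IsEquivalence := by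
  let kb := AlgebraicClosure k
  let Kb := AlgebraicClosure K
  letI : Algebra k Kb := ((algebraMap K Kb).comp (algebraMap k K)).toAlgebra
  let l : kb →ₐ[k] Kb := IsAlgClosed.lift
  letI : Algebra kb Kb := l.toRingHom.toAlgebra
  let b := Spec.map (CommRingCat.ofHom (algebraMap k K))
  let π := Spec.map (CommRingCat.ofHom (algebraMap k kb))
  let p₁ := pullback.fst f π
  let f₁ : pullback f π ⟶ Spec (CommRingCat.of kb) := pullback.snd f π
  haveI : IsProper f₁ := MorphismProperty.pullback_snd _ _ ‹_›
  let p₂ := pullback.fst f₁ (Spec.map (CommRingCat.ofHom (algebraMap kb Kb)))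
  let q₁ := pullback.fst f b
  let q₂ := pullback.fst (pullback.snd f b) (Spec.map (CommRingCat.ofHom (algebraMap K Kb)))
  have hsq : Spec.map (CommRingCat.ofHom (algebraMap K Kb)) ≫ b =
      Spec.map (CommRingCat.ofHom (algebraMap kb Kb)) ≫ π := by
    simp only [b, π, ← Spec.map_comp, ← CommRingCat.ofHom_comp]
    exact congrArg (fun φ => Spec.map (CommRingCat.ofHom φ)) l.comp_algebraMap.symm
  have hA : IsPullback (q₂ ≫ q₁) (pullback.snd (pullback.snd f b) _) f (Spec.map (CommRingCat.ofHom (algebraMap K Kb)) ≫ b) :=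
    (IsPullback.of_hasPullback _ _).paste_horiz (IsPullback.of_hasPullback f b)
  have hB : IsPullback (p₂ ≫ p₁) (pullback.snd f₁ _) f (Spec.map (CommRingCat.ofHom (algebraMap K Kb)) ≫ b) := by
    rw [hsq]
    exact (IsPullback.of_hasPullback _ _).paste_horiz (IsPullback.of_hasPullback f π)
  let e := hA.isoPullback ≪≫ hB.isoPullback.symm
  have he : e.hom ≫ p₂ ≫ p₁ = q₂ ≫ q₁ := by simp [e]
  haveI : (FEt.restrict p₁).IsEquivalence := isEquivalence_insep f
  haveI : (FEt.restrict p₂).IsEquivalence := isEquivalence_baseChange kb Kb f₁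
  haveI : (FEt.restrict q₂).IsEquivalence := isEquivalence_insep (pullback.snd f b)
  haveI : (FEt.restrict e.hom).IsEquivalence := by
    haveI : IsIntegralHom e.hom := inferInstance
    exact Groth.Agent.S0289.result _
  let F₁ : FEt.Cat X ⥤ FEt.Cat _ := FEt.restrict p₁ ⋙ FEt.restrict p₂ ⋙ FEt.restrict e.hom
  haveI : F₁.IsEquivalence := inferInstance
  let η : F₁ ≅ FEt.restrict q₁ ⋙ FEt.restrict q₂ :=
    NatIso.ofComponents (fun Z => (FEt.restrict e.hom).mapIso (Pi1Ext.Spread.restrictComp p₂ p₁ (p₂ ≫ p₁) rfl Z).symm ≪≫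
      Pi1Ext.Spread.restrictSquare e.hom (p₂ ≫ p₁) q₂ q₁ he Z) (fun {Z Z'} φ => by
        let n₁ := MorphismProperty.Over.pullbackComp (P := FEt.prop.{u}) (Q := ⊤) p₂ p₁ (p₂ ≫ p₁) rfl
        let n₂ := MorphismProperty.Over.pullbackComp (P := FEt.prop.{u}) (Q := ⊤) e.hom (p₂ ≫ p₁) (e.hom ≫ p₂ ≫ p₁) rfl
        let n₃ := MorphismProperty.Over.pullbackComp (P := FEt.prop.{u}) (Q := ⊤) q₂ q₁ (e.hom ≫ p₂ ≫ p₁) he
        exact ((Functor.isoWhiskerRight n₁.symm (FEt.restrict e.hom)).trans (n₂.symm.trans n₃)).hom.naturality φ)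
  haveI : (FEt.restrict q₁ ⋙ FEt.restrict q₂).IsEquivalence := Functor.isEquivalence_of_iso η
  exact Functor.isEquivalence_of_comp_right (FEt.restrict q₁) (FEt.restrict q₂)

end Groth.Agent.FamConst
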